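import Mathlib
import Cfsg.Agent.Lib.JordanSet.Primitive

/-!
An elementary lower bound for the minimal degree of a primitive group (Bochert, Babai): a
non-identity element moves at least `√(n - 1) / 2` points, unless the group contains the
alternating group.
-/

set_option autoImplicit false

set_option linter.unusedSectionVars false

namespace CfsgLib.MinDegree

open MulAction Finset Pointwise

variable {G Ω : Type*} [Group G] [MulAction G Ω] [Fintype Ω] [DecidableEq Ω]

variable (G) in
/-- The ordered pairs `(a, b)`, `(c, d)` lie in one orbital. -/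
def SameCol (a b c d : Ω) : Prop := ∃ g : G, g • a = c ∧ g • b = d

variable (G) in
open scoped Classical in
/-- The points distinguishing `a` from `b`. -/
noncomputable def dist (a b : Ω) : Finset Ω := univ.filter fun z => ¬ SameCol G a z b z

variable (G) in
open scoped Classical in
/-- The out-neighbours of `u` in the orbital of `(a, b)`. -/
noncomputable def out (a b u : Ω) : Finset Ω := univ.filter fun v => SameCol G a b u v

lemma sameCol_refl (a b : Ω) : SameCol G a b a b := ⟨1, one_smul _ _, one_smul _ _⟩

lemma SameCol.symm {a b c d : Ω} (h : SameCol G a b c d) : SameCol G c d a b := by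
  obtain ⟨g, h1, h2⟩ := h
  exact ⟨g⁻¹, by rw [← h1, inv_smul_smul], by rw [← h2, inv_smul_smul]⟩

lemma SameCol.trans {a b c d e f : Ω} (h : SameCol G a b c d) (h' : SameCol G c d e f) :
    SameCol G a b e f := by
  obtain ⟨g, h1, h2⟩ := h
  obtain ⟨g', h3, h4⟩ := h'
  exact ⟨g' * g, by rw [mul_smul, h1, h3], by rw [mul_smul, h2, h4]⟩

lemma sameCol_smul (g : G) (a b : Ω) : SameCol G a b (g • a) (g • b) := ⟨g, rfl, rfl⟩

lemma mem_dist {a b z : Ω} : z ∈ dist G a b ↔ ¬ SameCol G a z b z := by simp [dist]

lemma mem_out {a b u v : Ω} : v ∈ out G a b u ↔ SameCol G a b u v := by simp [out]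

lemma dist_comm (a b : Ω) : dist G a b = dist G b a := by
  ext z
  simp only [mem_dist]
  exact not_congr ⟨SameCol.symm, SameCol.symm⟩

lemma dist_self (a : Ω) : dist G a a = ∅ := by
  ext z
  simp [mem_dist, sameCol_refl]

lemma dist_triangle (a b c : Ω) :
    (dist G a c).card ≤ (dist G a b).card + (dist G b c).card := by
  refine le_trans (card_le_card ?_) (card_union_le _ _)
  intro z hz
  rw [mem_union, mem_dist, mem_dist]
  rw [mem_dist] at hz
  by_contra hh
  simp only [not_or, not_not] at hh
  exact hz (hh.1.trans hh.2)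

lemma dist_card_eq {a b c d : Ω} (h : SameCol G a b c d) :
    (dist G a b).card = (dist G c d).card := by
  obtain ⟨g, rfl, rfl⟩ := h
  rw [← card_image_of_injective (dist G a b) (MulAction.injective g)]
  congr 1
  ext z
  simp only [mem_image, mem_dist]
  constructor
  · rintro ⟨w, hw, rfl⟩ h
    exact hw ((sameCol_smul g a w).trans (h.trans (sameCol_smul g b w).symm))
  · intro hz
    refine ⟨g⁻¹ • z, fun h => hz ?_, smul_inv_smul g z⟩
    have h1 := sameCol_smul g a (g⁻¹ • z)
    have h2 := sameCol_smul g b (g⁻¹ • z)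
    rw [smul_inv_smul] at h1 h2
    exact h1.symm.trans (h.trans h2)

lemma out_smul (a b : Ω) (g : G) (u : Ω) :
    out G a b (g • u) = (out G a b u).image (g • ·) := by
  ext v
  simp only [mem_image, mem_out]
  constructor
  · intro h
    refine ⟨g⁻¹ • v, ?_, smul_inv_smul g v⟩
    have h1 := sameCol_smul g u (g⁻¹ • v)
    rw [smul_inv_smul] at h1
    exact h.trans h1.symm
  · rintro ⟨w, hw, rfl⟩
    exact hw.trans (sameCol_smul g u w)

variable [IsPreprimitive G Ω]

lemma out_card (a b u v : Ω) : (out G a b u).card = (out G a b v).card := by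
  obtain ⟨g, rfl⟩ := exists_smul_eq G u v
  rw [out_smul, card_image_of_injective _ (MulAction.injective g)]

lemma out_closed (a b : Ω) (hab : a ≠ b) (S : Ω → Prop) (u : Ω) (hu : S u)
    (hS : ∀ v w, S v → w ∈ out G a b v → S w) (z : Ω) : S z := by
  classical
  let R : Ω → Ω → Prop := fun p q => q ∈ out G a b p
  let B : Ω → Finset Ω := fun p => univ.filter fun q => Relation.ReflTransGen R p q
  have hmemB : ∀ p q, q ∈ B p ↔ Relation.ReflTransGen R p q := fun p q => by simp [B]
  have hR : ∀ (g : G) p q, Relation.ReflTransGen R p q →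
      Relation.ReflTransGen R (g • p) (g • q) := by
    intro g p q h
    induction h with
    | refl => exact .refl
    | tail _ hlast ih =>
      exact ih.tail (by
        simp only [R, mem_out] at hlast ⊢
        exact hlast.trans (sameCol_smul g _ _))
  have hBg : ∀ (g : G) p, B (g • p) = (B p).image (g • ·) := by
    intro g p
    ext q
    simp only [hmemB, mem_image]
    constructor
    · intro h
      refine ⟨g⁻¹ • q, ?_, smul_inv_smul g q⟩
      have := hR g⁻¹ _ _ h
      rwa [inv_smul_smul] at this
    · rintro ⟨w, hw, rfl⟩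
      exact hR g _ _ hw
  have hBeq : ∀ p q, q ∈ B p → B q = B p := by
    intro p q hq
    refine eq_of_subset_of_card_le (fun r hr => ?_) ?_
    · rw [hmemB] at hq hr ⊢
      exact hq.trans hr
    · obtain ⟨g, rfl⟩ := exists_smul_eq G p q
      rw [hBg, card_image_of_injective _ (MulAction.injective g)]
  have hblock : IsBlock G (↑(B a) : Set Ω) := by
    rw [isBlock_iff_smul_eq_of_nonempty]
    intro g hne
    obtain ⟨w, hw1, hw2⟩ := hne
    have he : g • (↑(B a) : Set Ω) = ↑(B (g • a)) := by
      rw [hBg, coe_image]; rfl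
    rw [he] at hw1 ⊢
    rw [mem_coe] at hw1 hw2
    rw [← hBeq _ _ hw1, hBeq _ _ hw2]
  have huniv : ∀ q, q ∈ B a := by
    rcases IsPreprimitive.isTrivialBlock_of_isBlock hblock with h | h
    · exfalso
      exact hab (h ((hmemB a a).mpr .refl)
        ((hmemB a b).mpr (.single (mem_out.mpr (sameCol_refl a b)))))
    · intro q
      have : q ∈ (↑(B a) : Set Ω) := h ▸ Set.mem_univ q
      exact this
  have huz : Relation.ReflTransGen R u z := by
    rw [← hmemB, hBeq a u (huniv u)]
    exact huniv z
  induction huz with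
  | refl => exact hu
  | tail _ hlast ih => exact hS _ _ ih hlast

/-- `D(a, b) k ≥ n - 1` for the orbital of `(a, b)` of valency `k`. -/
lemma dist_mul_out (a b : Ω) (hab : a ≠ b) :
    Fintype.card Ω - 1 ≤ (out G a b a).card * (dist G a b).card := by
  have hcover : univ.erase a ⊆ (out G a b a).biUnion fun v => dist G a v := by
    intro z hz
    rw [mem_biUnion]
    by_contra hh
    simp only [not_exists, not_and, mem_dist, not_not] at hh
    have hz' : SameCol G a z z z := by
      refine out_closed (G := G) a b hab (fun w => SameCol G a z w z) a (sameCol_refl a z) ?_ z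
      intro v w hv hw
      obtain ⟨g, hg1, hg2⟩ := hv
      have hw' : g⁻¹ • w ∈ out G a b a := by
        rw [mem_out] at hw ⊢
        have h1 := sameCol_smul g⁻¹ v w
        rw [← hg1, inv_smul_smul] at h1
        rw [← hg1] at hw
        exact hw.trans h1
      have h2 := (hh _ hw').trans (sameCol_smul g (g⁻¹ • w) z)
      rwa [smul_inv_smul, hg2] at h2
    obtain ⟨g, hg1, hg2⟩ := hz'
    exact (mem_erase.mp hz).1 (MulAction.injective g (hg2.trans hg1.symm))
  calc Fintype.card Ω - 1 = (univ.erase a).card := by simp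
    _ ≤ ((out G a b a).biUnion fun v => dist G a v).card := card_le_card hcover
    _ ≤ ∑ v ∈ out G a b a, (dist G a v).card := card_biUnion_le
    _ = ∑ v ∈ out G a b a, (dist G a b).card :=
        sum_congr rfl fun v hv => (dist_card_eq (mem_out.mp hv)).symm
    _ = _ := by rw [sum_const, smul_eq_mul]

lemma out_symmDiff_subset (a b u v z : Ω) (hz : z ∈ out G a b u) (hz' : z ∉ out G a b v) :
    z ∈ dist G u v := by
  rw [mem_dist]
  intro h
  exact hz' (mem_out.mpr ((mem_out.mp hz).trans h))

/-- Some pair of points has `D ≥ k` when `2k ≤ n - 1`. -/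
lemma exists_dist_ge (a b : Ω) (_hab : a ≠ b)
    (hk : 2 * (out G a b a).card + 1 ≤ Fintype.card Ω) :
    ∃ u v : Ω, (out G a b a).card ≤ (dist G u v).card := by
  classical
  set k := (out G a b a).card with hkdef
  set n := Fintype.card Ω with hn
  have hk1 : 1 ≤ k := card_pos.mpr ⟨b, mem_out.mpr (sameCol_refl a b)⟩
  set inn : Ω → Finset Ω := fun z => univ.filter fun u => z ∈ out G a b u with hinn
  have hinn_sum : ∑ z, (inn z).card = n * k := by
    have h := sum_comm (s := (univ : Finset Ω)) (t := (univ : Finset Ω))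
      (f := fun z u => if z ∈ out G a b u then 1 else 0)
    simp only [hinn, card_filter]
    rw [h, sum_congr rfl fun u _ => ?_, sum_const, smul_eq_mul, card_univ]
    rw [sum_boole, Nat.cast_id, hkdef, out_card a b a u]
    congr 1
    ext; simp
  have hinn_const : ∀ g : G, ∀ z, (inn (g • z)).card = (inn z).card := by
    intro g z
    rw [← card_image_of_injective (inn z) (MulAction.injective g)]
    congr 1
    ext u
    simp only [hinn, mem_filter, mem_univ, true_and, mem_image, mem_out]
    constructor
    · intro h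
      refine ⟨g⁻¹ • u, ?_, smul_inv_smul g u⟩
      have h1 := sameCol_smul g⁻¹ u (g • z)
      rw [inv_smul_smul] at h1
      exact h.trans h1
    · rintro ⟨w, hw, rfl⟩
      exact hw.trans (sameCol_smul g w z)
  have hinn_k : ∀ z, (inn z).card = k := by
    intro z
    have hall : ∀ y, (inn y).card = (inn z).card := fun y => by
      obtain ⟨g, rfl⟩ := exists_smul_eq G z y
      exact hinn_const g z
    rw [sum_congr rfl fun y _ => hall y, sum_const, smul_eq_mul, card_univ, ← hn] at hinn_sum
    exact Nat.eq_of_mul_eq_mul_left (by omega) hinn_sum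
  by_contra hh
  simp only [not_exists, not_le] at hh
  have hbound : ∑ p ∈ (univ : Finset (Ω × Ω)), (dist G p.1 p.2).card ≤ n * (n - 1) * (k - 1) := by
    rw [← sum_filter_add_sum_filter_not univ (fun p : Ω × Ω => p.1 ≠ p.2)]
    have h0 : ∑ p ∈ univ.filter (fun p : Ω × Ω => ¬ p.1 ≠ p.2), (dist G p.1 p.2).card = 0 := by
      refine sum_eq_zero fun p hp => ?_
      simp only [ne_eq, not_not, mem_filter, mem_univ, true_and] at hp
      rw [hp, dist_self, card_empty]
    rw [h0, add_zero]
    refine le_trans (sum_le_card_nsmul _ _ (k - 1) fun p _ => by have := hh p.1 p.2; omega) ?_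
    rw [smul_eq_mul]
    refine Nat.mul_le_mul_right _ (le_of_eq ?_)
    have hoff : univ.filter (fun p : Ω × Ω => p.1 ≠ p.2) = (univ : Finset Ω).offDiag := by
      ext p; simp
    rw [hoff, offDiag_card, card_univ, Nat.mul_sub_one]
  have hlow : n * (2 * (k * (n - k))) ≤ ∑ p ∈ (univ : Finset (Ω × Ω)), (dist G p.1 p.2).card := by
    have hswap : ∑ p ∈ (univ : Finset (Ω × Ω)), (dist G p.1 p.2).card =
        ∑ z : Ω, (univ.filter fun p : Ω × Ω => z ∈ dist G p.1 p.2).card := by
      simp only [card_filter]
      rw [sum_comm]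
      refine sum_congr rfl fun p _ => ?_
      rw [sum_boole, Nat.cast_id]
      congr 1
      ext; simp
    rw [hswap]
    refine le_trans (le_of_eq ?_) (card_nsmul_le_sum _ _ (2 * (k * (n - k))) fun z _ => ?_)
    · rw [card_univ, smul_eq_mul]
    · have hsub : (inn z ×ˢ (inn z)ᶜ) ∪ ((inn z)ᶜ ×ˢ inn z) ⊆
          univ.filter fun p : Ω × Ω => z ∈ dist G p.1 p.2 := by
        intro p hp
        simp only [mem_union, mem_product, mem_compl, hinn, mem_filter, mem_univ, true_and] at hp
        simp only [mem_filter, mem_univ, true_and]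
        rcases hp with ⟨h1, h2⟩ | ⟨h1, h2⟩
        · exact out_symmDiff_subset a b _ _ z h1 h2
        · rw [dist_comm]; exact out_symmDiff_subset a b _ _ z h2 h1
      refine le_trans (le_of_eq ?_) (card_le_card hsub)
      rw [card_union_of_disjoint, card_product, card_product, card_compl, hinn_k]
      · rw [mul_comm (Fintype.card Ω - k) k, two_mul]
      · rw [disjoint_left]
        intro p h1 h2
        simp only [mem_product, mem_compl] at h1 h2
        exact h2.1 h1.1
  obtain ⟨r, hr⟩ : ∃ r, n = 2 * k + 1 + r := ⟨n - (2 * k + 1), by omega⟩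
  have h := le_trans hlow hbound
  rw [mul_assoc] at h
  have h' := Nat.le_of_mul_le_mul_left h (by omega)
  rw [hr, show 2 * k + 1 + r - k = k + 1 + r by omega,
    show 2 * k + 1 + r - 1 = 2 * k + r by omega] at h'
  obtain ⟨j, hj⟩ : ∃ j, k = j + 1 := ⟨k - 1, by omega⟩
  rw [hj, Nat.add_sub_cancel] at h'
  nlinarith

/-- A primitive group which is not doubly transitive has `4 D(x, y)² ≥ n - 1` for `x ≠ y`. -/
theorem dist_bound (x y : Ω) (hxy : x ≠ y)
    (h2 : ¬ ∀ a b c d : Ω, a ≠ b → c ≠ d → SameCol G a b c d) :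
    Fintype.card Ω ≤ 4 * (dist G x y).card ^ 2 + 1 := by
  classical
  set n := Fintype.card Ω with hn
  simp only [not_forall] at h2
  obtain ⟨a, b, c, d, hab, hcd, hne⟩ := h2
  obtain ⟨g, hg⟩ := exists_smul_eq G c a
  have hcd' := sameCol_smul g c d
  rw [hg] at hcd'
  have had : a ≠ g • d := fun h => hcd (MulAction.injective g (hg.trans h))
  have hdisj : Disjoint (out G a b a) (out G a (g • d) a) := by
    rw [disjoint_left]
    intro z h1 h2
    exact hne ((mem_out.mp h1).trans ((mem_out.mp h2).symm.trans hcd'.symm))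
  have hnot : ∀ e : Ω, a ≠ e → a ∉ out G a e a := by
    intro e he h
    obtain ⟨q, hq1, hq2⟩ := mem_out.mp h
    exact he (MulAction.injective q (hq1.trans hq2.symm))
  have hsum : (out G a b a).card + (out G a (g • d) a).card + 1 ≤ n := by
    rw [← card_union_of_disjoint hdisj, ← card_singleton a, ← card_union_of_disjoint (by
      simp [hnot b hab, hnot _ had]), hn]
    exact card_le_univ _
  obtain ⟨e, hae, he⟩ : ∃ e : Ω, a ≠ e ∧ 2 * (out G a e a).card + 1 ≤ n := by
    rcases le_total (out G a b a).card (out G a (g • d) a).card with h | h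
    · exact ⟨b, hab, by omega⟩
    · exact ⟨g • d, had, by omega⟩
  obtain ⟨U, V, hUV⟩ : ∃ U V : Ω, n ≤ (dist G U V).card ^ 2 + 1 := by
    obtain ⟨u, v, huv⟩ := exists_dist_ge a e hae he
    have h1 := dist_mul_out (G := G) a e hae
    have h1' : n ≤ (out G a e a).card * (dist G a e).card + 1 := by omega
    rcases le_total (dist G a e).card (dist G u v).card with h | h
    · exact ⟨u, v, h1'.trans (by rw [sq]; gcongr)⟩
    · exact ⟨a, e, h1'.trans (by rw [sq]; exact Nat.add_le_add_right (Nat.mul_le_mul_right _ (huv.trans h)) 1)⟩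
  set D := (dist G x y).card with hD
  set k := (out G x y x).card with hk
  let Adj : Ω → Ω → Prop := fun p q => q ∈ out G x y p ∨ p ∈ out G x y q
  have hAdjD : ∀ p q, Adj p q → (dist G p q).card = D := by
    rintro p q (h | h)
    · exact (dist_card_eq (mem_out.mp h)).symm
    · rw [dist_comm]; exact (dist_card_eq (mem_out.mp h)).symm
  let Ball : Ω → Ω → Prop := fun p q => p = q ∨ Adj p q ∨ ∃ w, Adj p w ∧ Adj w q
  by_cases hball : ∀ p q, Ball p q
  · have hle : (dist G U V).card ≤ 2 * D := by
      rcases hball U V with h | h | ⟨w, h1, h2⟩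
      · rw [h, dist_self, card_empty]; omega
      · rw [hAdjD _ _ h]; omega
      · have := dist_triangle (G := G) U w V
        rw [hAdjD _ _ h1, hAdjD _ _ h2] at this
        omega
    have h2 : (dist G U V).card ^ 2 ≤ (2 * D) ^ 2 := Nat.pow_le_pow_left hle 2
    nlinarith
  · simp only [not_forall] at hball
    obtain ⟨p, q₀, hpq⟩ := hball
    obtain ⟨v, q, hv, hvq, hq⟩ : ∃ v q, Ball p v ∧ q ∈ out G x y v ∧ ¬ Ball p q := by
      by_contra hh
      simp only [not_exists, not_and, not_not] at hh
      exact hpq (out_closed (G := G) x y hxy (Ball p) p (Or.inl rfl)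
        (fun v w hv hw => hh v w hv hw) q₀)
    rcases hv with rfl | hv | ⟨w, hpw, hwv⟩
    · exact absurd (Or.inr (Or.inl (Or.inl hvq))) hq
    · exact absurd (Or.inr (Or.inr ⟨v, hv, Or.inl hvq⟩)) hq
    · have hd : (dist G p q).card ≤ 3 * D := by
        have h1 := dist_triangle (G := G) p w q
        have h2 := dist_triangle (G := G) w v q
        rw [hAdjD _ _ hpw] at h1
        rw [hAdjD _ _ hwv, hAdjD _ _ (Or.inl hvq)] at h2
        omega
      have hnc : ∀ z, z ∈ out G x y p → z ∉ out G x y q := fun z h1 h2 =>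
        hq (Or.inr (Or.inr ⟨z, Or.inl h1, Or.inr h2⟩))
      have hsub : out G x y p ∪ out G x y q ⊆ dist G p q := by
        intro z hz
        rcases mem_union.mp hz with h | h
        · exact out_symmDiff_subset x y p q z h (hnc z h)
        · rw [dist_comm]; exact out_symmDiff_subset x y q p z h (fun h' => hnc z h' h)
      have hu := card_le_card hsub
      rw [card_union_of_disjoint (disjoint_left.mpr hnc), out_card x y p x, out_card x y q x,
        ← hk] at hu
      have hm := dist_mul_out (G := G) x y hxy
      rw [← hk, ← hD, ← hn] at hm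
      have hm' : n ≤ k * D + 1 := by omega
      nlinarith

omit [IsPreprimitive G Ω] in
lemma dist_subset_moved (g : G) (x : Ω) :
    dist G x (g • x) ⊆ univ.filter fun z => g • z ≠ z := by
  intro z hz
  rw [mem_dist] at hz
  simp only [mem_filter, mem_univ, true_and]
  exact fun h => hz ⟨g, rfl, h⟩

omit [IsPreprimitive G Ω] in
/-- In a doubly transitive group, an element moving `m` points with `(m - 1)² < n - 1` has a
conjugate whose commutator with it is a three-cycle. -/
theorem exists_threeCycle [Finite G] (h2 : ∀ a b c d : Ω, a ≠ b → c ≠ d → SameCol G a b c d)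
    (g : G) (x : Ω) (hx : g • x ≠ x)
    (hm : (((univ : Finset Ω).filter fun z => g • z ≠ z).card - 1) ^ 2 < Fintype.card Ω - 1) :
    ∃ σ ∈ (MulAction.toPermHom G Ω).range, Equiv.Perm.IsThreeCycle σ := by
  classical
  cases nonempty_fintype G
  set S := ((univ : Finset Ω).filter fun z => g • z ≠ z).erase x with hS
  have hxS : x ∈ (univ : Finset Ω).filter fun z => g • z ≠ z := by simp [hx]
  have hScard : S.card = ((univ : Finset Ω).filter fun z => g • z ≠ z).card - 1 := card_erase_of_mem hxS
  rw [← hScard] at hm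
  set H : Finset G := univ.filter fun h => h • x = x with hH
  set F : Ω → Ω → Finset G := fun a b => H.filter fun h => h • a = b with hF
  have hFconst : ∀ a b, a ≠ x → b ≠ x → (F a b).card = (F a a).card := by
    intro a b ha hb
    obtain ⟨t, ht1, ht2⟩ := h2 x a x b ha.symm hb.symm
    rw [← card_image_of_injective (F a a) (mul_right_injective t)]
    congr 1
    ext h
    simp only [hF, hH, mem_filter, mem_univ, true_and, mem_image]
    constructor
    · rintro ⟨h1, h2'⟩
      refine ⟨t⁻¹ * h, ⟨?_, ?_⟩, mul_inv_cancel_left t h⟩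
      · rw [mul_smul, h1, inv_smul_eq_iff, ht1]
      · rw [mul_smul, h2', inv_smul_eq_iff, ht2]
    · rintro ⟨w, ⟨h1, h2'⟩, rfl⟩
      exact ⟨by rw [mul_smul, h1, ht1], by rw [mul_smul, h2', ht2]⟩
  have hHcard : ∀ a, a ≠ x → H.card = (Fintype.card Ω - 1) * (F a a).card := by
    intro a ha
    have hmap : ∀ h ∈ H, h • a ∈ univ.erase x := by
      intro h hh
      simp only [hH, mem_filter, mem_univ, true_and] at hh
      refine mem_erase.mpr ⟨fun he => ha ?_, mem_univ _⟩
      exact MulAction.injective h (he.trans hh.symm)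
    rw [card_eq_sum_card_fiberwise hmap,
      sum_congr rfl fun b hb => hFconst a b ha (mem_erase.mp hb).1, sum_const, smul_eq_mul]
    simp
  have hH1 : 1 ∈ H := by simp [hH]
  obtain ⟨h, hh, hgood⟩ : ∃ h ∈ H, ∀ a ∈ S, h • a ∉ S := by
    by_contra hh
    simp only [not_exists, not_and, not_forall, not_not] at hh
    have hsub : H ⊆ S.biUnion fun a => S.biUnion fun b => F a b := by
      intro h hhH
      obtain ⟨a, ha, hb⟩ := hh h hhH
      simp only [mem_biUnion, hF, mem_filter]
      exact ⟨a, ha, h • a, hb, hhH, rfl⟩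
    have h1 : H.card ≤ ∑ a ∈ S, S.card * (F a a).card := by
      refine le_trans (card_le_card hsub) (le_trans card_biUnion_le (sum_le_sum fun a ha => ?_))
      refine le_trans card_biUnion_le (le_of_eq ?_)
      rw [sum_congr rfl fun b hb => hFconst a b (mem_erase.mp ha).1 (mem_erase.mp hb).1,
        sum_const, smul_eq_mul]
    have h3 : (Fintype.card Ω - 1) * ∑ a ∈ S, S.card * (F a a).card = S.card ^ 2 * H.card := by
      rw [mul_sum, sum_congr rfl fun a ha => show (Fintype.card Ω - 1) * (S.card * (F a a).card) =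
        S.card * H.card by rw [hHcard a (mem_erase.mp ha).1]; ring, sum_const, smul_eq_mul]
      ring
    have hpos : 0 < H.card := card_pos.mpr ⟨1, hH1⟩
    have h4 := Nat.mul_le_mul_left (Fintype.card Ω - 1) h1
    rw [h3] at h4
    exact absurd (Nat.le_of_mul_le_mul_right h4 hpos) (by omega)
  simp only [hH, mem_filter, mem_univ, true_and] at hh
  have hh' : h⁻¹ • x = x := by rw [inv_smul_eq_iff, hh]
  refine ⟨MulAction.toPermHom G Ω (g * (h * g * h⁻¹) * g⁻¹ * (h * g * h⁻¹)⁻¹),
    ⟨g * (h * g * h⁻¹) * g⁻¹ * (h * g * h⁻¹)⁻¹, rfl⟩, ?_⟩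
  simp only [map_mul, map_inv]
  rw [← map_inv, ← map_mul, ← map_mul]
  refine JordanSet.isThreeCycle_commutator (a := x) ?_ ?_ ?_
  · simpa using hx
  · simp only [MulAction.toPermHom_apply, MulAction.toPerm_apply, mul_smul, hh']
    intro he
    exact hx (MulAction.injective h (he.trans hh.symm))
  · intro z hz1 hz2
    simp only [MulAction.toPermHom_apply, MulAction.toPerm_apply, mul_smul] at hz1 hz2
    by_contra hzx
    have hw : g • (h⁻¹ • z) ≠ h⁻¹ • z := fun he => hz2 (by rw [he, smul_inv_smul])
    have hwx : h⁻¹ • z ≠ x := fun he => hzx (by rw [← hh, ← he, smul_inv_smul])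
    refine hgood (h⁻¹ • z) ?_ ?_
    · simp [hS, hw, hwx]
    · simp [hS, hz1, hzx]

end CfsgLib.MinDegree
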